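import Cfsg.Agent.Chevalley.Model
import Cfsg.Agent.H37.Basic

/-!
Automorphisms of a Chevalley group induced by a signed permutation of the Chevalley basis
(graph automorphisms of simply laced types).
-/
set_option autoImplicit false

namespace Cfsg.Agent.H37.Sym

open Cfsg.Lie Cfsg.Lie.ChevalleyDatum Cfsg.Agent.Chevalley

/-- Tables of a signed permutation of the basis, with the inverse permutations. -/
structure Data where
  tau : List ℕ
  tauInv : List ℕ
  perm : List ℕ
  permInv : List ℕ
  minus : List ℕ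

namespace Data

variable (T : Data) (D : ChevalleyDatum)

def t (i : ℕ) : ℕ := T.tau.getD i 0
def p (r : ℕ) : ℕ := T.perm.getD r 0
def sg (r : ℕ) : ℤ := if T.minus.getD r 0 == 1 then -1 else 1

/-- The image of a chain-table entry. -/
def image (r s : ℕ) (L : List (ℕ × ℤ)) : List (ℕ × ℤ) :=
  L.zipIdx.map fun q => (T.p q.1.1, T.sg q.1.1 * T.sg r ^ (q.2 + 1) * T.sg s * q.1.2)

def checkTau : Bool :=
  (List.range D.rank).all fun i =>
    decide (T.t i < D.rank) && decide (T.tauInv.getD i 0 < D.rank) &&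
    (T.tauInv.getD (T.t i) 0 == i) && (T.t (T.tauInv.getD i 0) == i)

def checkRow (r : ℕ) : Bool :=
  decide (T.p r < D.nroots) && decide (T.permInv.getD r 0 < D.nroots) &&
  (T.permInv.getD (T.p r) 0 == r) && (T.p (T.permInv.getD r 0) == r) &&
  decide (D.neg r < D.nroots) && !(D.neg r == r) &&
  (D.neg (T.p r) == T.p (D.neg r)) && decide (T.sg (D.neg r) = T.sg r) &&
  ((List.range D.rank).all fun i =>
    decide (D.cartan (T.t i) (T.p r) = D.cartan i r) &&
    decide ((D.coroot.getD (T.p r) #[]).getD (T.t i) 0 = (D.coroot.getD r #[]).getD i 0)) &&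
  decide (((D.chain.getD r #[]).toList.map Prod.fst).Nodup) &&
  ((D.chain.getD r #[]).toList.all fun e =>
    decide (e.1 < D.nroots) && !(e.1 == r) && !(e.1 == D.neg r) &&
    decide (e.2.toList.length ≤ 3) && e.2.toList.all fun q => decide (q.1 < D.nroots)) &&
  ((List.range D.nroots).all fun s =>
    decide (D.chainEntry (T.p r) (T.p s) = T.image r s (D.chainEntry r s)))

def check : Bool := T.checkTau D && (List.range D.nroots).all (T.checkRow D)

end Data

/-- The basis symmetry with its checked properties. -/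
structure Good (T : Data) (D : ChevalleyDatum) : Prop where
  ok : T.check D = true

variable {T : Data} {D : ChevalleyDatum}

namespace Good

variable (hT : Good T D)
include hT

lemma tau_spec {i : ℕ} (hi : i < D.rank) : T.t i < D.rank ∧ T.tauInv.getD i 0 < D.rank ∧
    T.tauInv.getD (T.t i) 0 = i ∧ T.t (T.tauInv.getD i 0) = i := by
  have := hT.ok
  simp only [Data.check, Data.checkTau, Bool.and_eq_true, List.all_eq_true, List.mem_range,
    decide_eq_true_eq, beq_iff_eq] at this
  obtain ⟨⟨⟨h1, h2⟩, h3⟩, h4⟩ := this.1 i hi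
  exact ⟨h1, h2, h3, h4⟩

lemma row {r : ℕ} (hr : r < D.nroots) : T.checkRow D r = true := by
  have := hT.ok
  simp only [Data.check, Bool.and_eq_true, List.all_eq_true, List.mem_range] at this
  exact this.2 r hr

lemma perm_spec {r : ℕ} (hr : r < D.nroots) : T.p r < D.nroots ∧
    T.permInv.getD r 0 < D.nroots ∧ T.permInv.getD (T.p r) 0 = r ∧
    T.p (T.permInv.getD r 0) = r ∧ D.neg r < D.nroots ∧ D.neg r ≠ r ∧
    D.neg (T.p r) = T.p (D.neg r) ∧ T.sg (D.neg r) = T.sg r := by
  have := hT.row hr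
  simp only [Data.checkRow, Bool.and_eq_true, decide_eq_true_eq, beq_iff_eq,
    Bool.not_eq_true', beq_eq_false_iff_ne] at this
  obtain ⟨⟨⟨⟨⟨⟨⟨⟨⟨⟨⟨h1, h2⟩, h3⟩, h4⟩, h5⟩, h6⟩, h7⟩, h8⟩, -⟩, -⟩, -⟩, -⟩ := this
  exact ⟨h1, h2, h3, h4, h5, h6, h7, h8⟩

lemma cartan_cor {i r : ℕ} (hi : i < D.rank) (hr : r < D.nroots) :
    D.cartan (T.t i) (T.p r) = D.cartan i r ∧
      (D.coroot.getD (T.p r) #[]).getD (T.t i) 0 = (D.coroot.getD r #[]).getD i 0 := by
  have := hT.row hr
  simp only [Data.checkRow, Bool.and_eq_true] at this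
  have h := this.1.1.1.2
  simp only [List.all_eq_true, List.mem_range, Bool.and_eq_true, decide_eq_true_eq] at h
  exact h i hi

lemma rowOK {r : ℕ} (hr : r < D.nroots) : RowOK D r := by
  have := hT.row hr
  simp only [Data.checkRow, Bool.and_eq_true] at this
  have hn := this.1.1.2
  have hk := this.1.2
  simp only [List.all_eq_true, Bool.and_eq_true, decide_eq_true_eq, Bool.not_eq_true',
    beq_eq_false_iff_ne] at hn hk
  refine ⟨hn, fun s => ?_, fun e he => ⟨(hk e he).1.1.1.2, (hk e he).1.1.2⟩⟩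
  unfold ChevalleyDatum.chainEntry
  split
  · simp
  · next e he => exact (hk e (List.mem_of_find?_eq_some he)).1.2

lemma target_lt {r s : ℕ} (hr : r < D.nroots) {q : ℕ × ℤ} (hq : q ∈ D.chainEntry r s) :
    q.1 < D.nroots := by
  have := hT.row hr
  simp only [Data.checkRow, Bool.and_eq_true] at this
  have hk := this.1.2
  simp only [List.all_eq_true, Bool.and_eq_true, decide_eq_true_eq] at hk
  unfold ChevalleyDatum.chainEntry at hq
  split at hq
  · simp at hq
  · next e he => exact (hk e (List.mem_of_find?_eq_some he)).2 q hq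

lemma chain_spec {r s : ℕ} (hr : r < D.nroots) (hs : s < D.nroots) :
    D.chainEntry (T.p r) (T.p s) = T.image r s (D.chainEntry r s) := by
  have := hT.row hr
  simp only [Data.checkRow, Bool.and_eq_true] at this
  have h := this.2
  simp only [List.all_eq_true, List.mem_range, decide_eq_true_eq] at h
  exact h s hs

lemma p_inj {r s : ℕ} (hr : r < D.nroots) (hs : s < D.nroots) (h : T.p r = T.p s) : r = s := by
  rw [← (hT.perm_spec hr).2.2.1, h, (hT.perm_spec hs).2.2.1]

omit hT in
lemma sg_pm (r : ℕ) : T.sg r = 1 ∨ T.sg r = -1 := by unfold Data.sg; split <;> simp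

omit hT in
lemma sg_sq (r : ℕ) : T.sg r * T.sg r = 1 := by rcases sg_pm (T := T) r with h | h <;> simp [h]

/-- The induced permutation of coroot coordinates. -/
def tauEquiv : Equiv.Perm (Fin D.rank) where
  toFun i := ⟨T.t i, (hT.tau_spec i.isLt).1⟩
  invFun i := ⟨T.tauInv.getD i 0, (hT.tau_spec i.isLt).2.1⟩
  left_inv i := Fin.ext (hT.tau_spec i.isLt).2.2.1
  right_inv i := Fin.ext (hT.tau_spec i.isLt).2.2.2

/-- The induced permutation of roots. -/
def rootEquiv : Equiv.Perm (Fin D.nroots) where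
  toFun r := ⟨T.p r, (hT.perm_spec r.isLt).1⟩
  invFun r := ⟨T.permInv.getD r 0, (hT.perm_spec r.isLt).2.1⟩
  left_inv r := Fin.ext (hT.perm_spec r.isLt).2.2.1
  right_inv r := Fin.ext (hT.perm_spec r.isLt).2.2.2.1

/-- The induced permutation of the index set. -/
def idxEquiv : Equiv.Perm D.Idx := Equiv.sumCongr hT.tauEquiv hT.rootEquiv

omit hT in
/-- Signs on the index set. -/
def idxSign (T : Data) (D : ChevalleyDatum) : D.Idx → ℤ := Sum.elim (fun _ => 1) fun r => T.sg r.val

omit hT in
lemma idxSign_sq (a : D.Idx) : idxSign T D a * idxSign T D a = 1 := by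
  rcases a with i | r
  · simp [idxSign]
  · exact sg_sq _

lemma entUS_chain {r s u : ℕ} (hr : r < D.nroots) (hs : s < D.nroots) (hu : u < D.nroots)
    {k : ℕ} (hk : k ≠ 0) :
    (if D.chainRoot (T.p r) (T.p s) k = some (T.p u) then D.chainM (T.p r) (T.p s) k else 0)
      = T.sg u * T.sg r ^ k * T.sg s *
        (if D.chainRoot r s k = some u then D.chainM r s k else 0) := by
  unfold chainRoot chainM
  rw [hT.chain_spec hr hs, Data.image, List.getElem?_map, List.getElem?_zipIdx]
  cases h : (D.chainEntry r s)[k - 1]? with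
  | none => simp
  | some q =>
      simp only [Option.map_some, Option.getD_some, Option.some.injEq, zero_add]
      have hq := hT.target_lt hr (List.mem_of_getElem? h)
      by_cases hqu : q.1 = u
      · subst hqu
        rw [show k - 1 + 1 = k by omega]
        simp
      · have : ¬ T.p q.1 = T.p u := fun he => hqu (hT.p_inj hq hu he)
        simp [hqu, this]

lemma aMat_sym {r : ℕ} (hr : r < D.nroots) (k : ℕ) (a b : D.Idx) :
    aMat D (T.p r) k (hT.idxEquiv a) (hT.idxEquiv b) * T.sg r ^ k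
      = idxSign T D a * idxSign T D b * aMat D r k a b := by
  have hsq : T.sg r * T.sg r = 1 := sg_sq r
  rcases a with i | u <;> rcases b with j | s
  · simp only [idxEquiv, Equiv.sumCongr_apply, Sum.map_inl, aMat_ll, idxSign, Sum.elim_inl,
      entII, tauEquiv, Equiv.coe_fn_mk]
    by_cases hk : k = 0
    · subst hk
      by_cases hij : i = j
      · subst hij; simp
      · have : ¬ T.t i = T.t j := fun h => hij (Fin.ext (by
          rw [← (hT.tau_spec i.isLt).2.2.1, h, (hT.tau_spec j.isLt).2.2.1]))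
        simp [Fin.val_inj, hij, this]
    · simp [hk]
  · simp only [idxEquiv, Equiv.sumCongr_apply, Sum.map_inl, Sum.map_inr, aMat_lr, idxSign,
      Sum.elim_inl, Sum.elim_inr, entIS, tauEquiv, rootEquiv, Equiv.coe_fn_mk, cor]
    rw [(hT.perm_spec hr).2.2.2.2.2.2.1]
    by_cases hk : k = 1 ∧ s.val = D.neg r
    · obtain ⟨rfl, hs⟩ := hk
      rw [hs, if_pos ⟨rfl, rfl⟩, if_pos ⟨rfl, rfl⟩, (hT.cartan_cor i.isLt hr).2,
        (hT.perm_spec hr).2.2.2.2.2.2.2]
      ring
    · have : ¬ (k = 1 ∧ T.p s = T.p (D.neg r)) := fun h =>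
        hk ⟨h.1, hT.p_inj s.isLt (hT.perm_spec hr).2.2.2.2.1 h.2⟩
      simp [hk, this]
  · simp only [idxEquiv, Equiv.sumCongr_apply, Sum.map_inl, Sum.map_inr, aMat_rl, idxSign,
      Sum.elim_inl, Sum.elim_inr, entUI, tauEquiv, rootEquiv, Equiv.coe_fn_mk]
    by_cases hk : k = 1 ∧ u.val = r
    · obtain ⟨rfl, hu⟩ := hk
      rw [hu, if_pos ⟨rfl, rfl⟩, if_pos ⟨rfl, rfl⟩, (hT.cartan_cor j.isLt hr).1]
      ring
    · have : ¬ (k = 1 ∧ T.p u = T.p r) := fun h => hk ⟨h.1, hT.p_inj u.isLt hr h.2⟩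
      simp [hk, this]
  · simp only [idxEquiv, Equiv.sumCongr_apply, Sum.map_inr, aMat_rr, idxSign, Sum.elim_inr,
      entUS, rootEquiv, Equiv.coe_fn_mk]
    by_cases hk0 : k = 0
    · subst hk0
      by_cases hus : u = s
      · subst hus; simp [sg_sq]
      · have : ¬ T.p u = T.p s := fun h => hus (Fin.ext (hT.p_inj u.isLt s.isLt h))
        simp [Fin.val_inj, hus, this]
    · rw [if_neg hk0, if_neg hk0, hT.entUS_chain hr s.isLt u.isLt hk0,
        (hT.perm_spec hr).2.2.2.2.2.2.1, add_mul, mul_add]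
      congr 1
      · by_cases hc : k = 2 ∧ s.val = D.neg r ∧ u.val = r
        · obtain ⟨rfl, hs, hu⟩ := hc
          simp [hs, hu, (hT.perm_spec hr).2.2.2.2.2.2.2, pow_two]
        · have : ¬ (k = 2 ∧ T.p s = T.p (D.neg r) ∧ T.p u = T.p r) := fun h =>
            hc ⟨h.1, hT.p_inj s.isLt (hT.perm_spec hr).2.2.2.2.1 h.2.1, hT.p_inj u.isLt hr h.2.2⟩
          simp [hc, this]
      · generalize (if D.chainRoot r s.val k = some u.val then D.chainM r s.val k else 0) = X
        calc T.sg u * T.sg r ^ k * T.sg s * X * T.sg r ^ k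
            = T.sg u * T.sg s * (T.sg r * T.sg r) ^ k * X := by ring
          _ = _ := by rw [hsq, one_pow, mul_one]

variable {F : Type*} [Field F]

/-- The key identity on entries. -/
lemma x_sym {r : ℕ} (hr : r < D.nroots) (t : F) (a b : D.Idx) :
    D.x F (T.p r) ((T.sg r : F) * t) (hT.idxEquiv a) (hT.idxEquiv b)
      = (idxSign T D a : F) * (idxSign T D b : F) * D.x F r t a b := by
  have hp := (hT.perm_spec hr).1
  rw [(hT.rowOK hp).x_eq hp (hT.perm_spec hp).2.2.2.2.2.1,
    (hT.rowOK hr).x_eq hr (hT.perm_spec hr).2.2.2.2.2.1]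
  simp only [xR, Matrix.of_apply, Finset.mul_sum]
  refine Finset.sum_congr rfl fun k _ => ?_
  rw [mul_pow, ← mul_assoc, ← Int.cast_pow, ← Int.cast_mul, hT.aMat_sym hr k a b]
  push_cast
  ring

/-- Conjugation by the signed permutation, as an automorphism of the matrix ring. -/
def matEquiv (F : Type*) [Field F] : Matrix D.Idx D.Idx F ≃* Matrix D.Idx D.Idx F where
  toFun X := Matrix.of fun a b =>
    (idxSign T D (hT.idxEquiv.symm a) : F) * (idxSign T D (hT.idxEquiv.symm b) : F) *
      X (hT.idxEquiv.symm a) (hT.idxEquiv.symm b)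
  invFun X := Matrix.of fun a b =>
    (idxSign T D a : F) * (idxSign T D b : F) * X (hT.idxEquiv a) (hT.idxEquiv b)
  left_inv X := by
    ext a b
    simp only [Matrix.of_apply, Equiv.symm_apply_apply]
    have ha : (idxSign T D a : F) * idxSign T D a = 1 := by
      rw [← Int.cast_mul, idxSign_sq, Int.cast_one]
    have hb : (idxSign T D b : F) * idxSign T D b = 1 := by
      rw [← Int.cast_mul, idxSign_sq, Int.cast_one]
    calc _ = ((idxSign T D a : F) * idxSign T D a) * ((idxSign T D b : F) * idxSign T D b) * X a b :=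
          by ring
      _ = _ := by rw [ha, hb, one_mul, one_mul]
  right_inv X := by
    ext a b
    simp only [Matrix.of_apply, Equiv.apply_symm_apply]
    generalize hT.idxEquiv.symm a = a', hT.idxEquiv.symm b = b'
    have ha : (idxSign T D a' : F) * idxSign T D a' = 1 := by
      rw [← Int.cast_mul, idxSign_sq, Int.cast_one]
    have hb : (idxSign T D b' : F) * idxSign T D b' = 1 := by
      rw [← Int.cast_mul, idxSign_sq, Int.cast_one]
    calc _ = ((idxSign T D a' : F) * idxSign T D a') * ((idxSign T D b' : F) * idxSign T D b')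
            * X a b := by ring
      _ = _ := by rw [ha, hb, one_mul, one_mul]
  map_mul' X Y := by
    ext a b
    simp only [Matrix.of_apply, Matrix.mul_apply, Finset.mul_sum]
    rw [← Equiv.sum_comp hT.idxEquiv.symm]
    refine Finset.sum_congr rfl fun c _ => ?_
    have hc : (idxSign T D (hT.idxEquiv.symm c) : F) * idxSign T D (hT.idxEquiv.symm c) = 1 := by
      rw [← Int.cast_mul, idxSign_sq, Int.cast_one]
    linear_combination ((idxSign T D (hT.idxEquiv.symm a) : F) *
      (idxSign T D (hT.idxEquiv.symm b) : F) * X (hT.idxEquiv.symm a) (hT.idxEquiv.symm c) *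
      Y (hT.idxEquiv.symm c) (hT.idxEquiv.symm b)) * (-hc)

/-- The automorphism of `GL`. -/
def glEquiv (F : Type*) [Field F] : GL D.Idx F ≃* GL D.Idx F := Units.mapEquiv (hT.matEquiv F)

lemma matEquiv_x {r : ℕ} (hr : r < D.nroots) (t : F) :
    hT.matEquiv F (D.x F r t) = D.x F (T.p r) ((T.sg r : F) * t) := by
  ext a b
  show (idxSign T D _ : F) * (idxSign T D _ : F) * _ = _
  rw [← hT.x_sym hr t]
  simp

lemma glEquiv_xGL (hO : Ordered D) {r : ℕ} (hr : r < D.nroots) (t : F) :
    hT.glEquiv F (xGL hO r t) = xGL hO (T.p r) ((T.sg r : F) * t) :=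
  Units.ext (hT.matEquiv_x hr t)

lemma map_group (hO : Ordered D) : (D.group F).map (hT.glEquiv F).toMonoidHom = D.group F := by
  refine le_antisymm ?_ ?_
  · rw [ChevalleyDatum.group, MonoidHom.map_closure]
    refine (Subgroup.closure_le _).2 ?_
    rintro _ ⟨g, ⟨r, t, hg⟩, rfl⟩
    have hg' : g = xGL hO r.val t := Units.ext (hg.trans (x_eq_xMat r.isLt t).symm)
    rw [hg']
    show hT.glEquiv F (xGL hO r.val t) ∈ D.group F
    rw [hT.glEquiv_xGL hO r.isLt]
    exact xGL_mem_group hO _ _
  · rw [ChevalleyDatum.group]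
    refine (Subgroup.closure_le _).2 ?_
    rintro g ⟨r, t, hg⟩
    have hg' : g = xGL hO r.val t := Units.ext (hg.trans (x_eq_xMat r.isLt t).symm)
    set r' := T.permInv.getD r.val 0
    have hr' : r' < D.nroots := (hT.perm_spec r.isLt).2.1
    refine ⟨xGL hO r' ((T.sg r' : F) * t), xGL_mem_group hO _ _, ?_⟩
    rw [hg']
    show hT.glEquiv F (xGL hO r' _) = _
    rw [hT.glEquiv_xGL hO hr', ← mul_assoc, ← Int.cast_mul, sg_sq, Int.cast_one, one_mul,
      (hT.perm_spec r.isLt).2.2.2.1]

/-- The automorphism of the Chevalley group. -/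
def groupEquiv (hO : Ordered D) (F : Type*) [Field F] : ↥(D.group F) ≃* ↥(D.group F) :=
  ((hT.glEquiv F).subgroupMap (D.group F)).trans (MulEquiv.subgroupCongr (hT.map_group hO))

lemma groupEquiv_x (hO : Ordered D) (g : ↥(D.group F)) {r : ℕ} (hr : r < D.nroots) (t : F)
    (hg : ((g : GL D.Idx F) : Matrix D.Idx D.Idx F) = D.x F r t) :
    ((hT.groupEquiv hO F g : GL D.Idx F) : Matrix D.Idx D.Idx F)
      = D.x F (T.p r) ((T.sg r : F) * t) := by
  show hT.matEquiv F ((g : GL D.Idx F) : Matrix D.Idx D.Idx F) = _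
  rw [hg, hT.matEquiv_x hr]

end Good

end Cfsg.Agent.H37.Sym
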