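import Cfsg.Agent.H37.Sym.Basic
import Cfsg.Prelude.Def_ChevD4

/-! Machine-generated graph symmetry of type D4 (see `Sym/Basic.lean`). -/
set_option autoImplicit false

namespace Cfsg.Agent.H37.Sym

/-- The tables of the symmetry. -/
def dataD4a : Data where
  tau := [2, 1, 3, 0]
  tauInv := [3, 1, 0, 2]
  perm := [0, 1, 6, 2, 7, 10, 3, 8, 4, 9, 11, 5, 18, 12, 14, 19, 15, 20, 13, 16, 21, 17, 22, 23]
  permInv := [0, 1, 3, 6, 8, 11, 2, 4, 7, 9, 5, 10, 13, 18, 14, 16, 19, 21, 12, 15, 17, 20, 22, 23]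
  minus := [0, 0, 1, 0, 1, 0, 1, 0, 1, 0, 0, 0, 0, 0, 0, 1, 0, 1, 0, 1, 0, 1, 0, 0]

theorem goodD4a : Good dataD4a Cfsg.Lie.chevD4 := ⟨by decide +kernel⟩

end Cfsg.Agent.H37.Sym
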