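import Cfsg.Agent.H37.Sym.Basic
import Cfsg.Prelude.Def_ChevE6

/-! Machine-generated graph symmetry of type E6 (see `Sym/Basic.lean`). -/
set_option autoImplicit false

namespace Cfsg.Agent.H37.Sym

/-- The tables of the symmetry. -/
def dataE6 : Data where
  tau := [5, 1, 4, 3, 2, 0]
  tauInv := [5, 1, 4, 3, 2, 0]
  perm := [0, 1, 2, 5, 16, 3, 6, 17, 8, 19, 22, 11, 26, 30, 33, 35, 4, 7, 18, 9, 20, 23, 10, 21, 24, 25, 12, 27, 31, 34, 13, 28, 32, 14, 29, 15, 56, 42, 57, 39, 43, 58, 37, 40, 44, 59, 46, 47, 50, 61, 48, 51, 62, 53, 64, 67, 36, 38, 41, 45, 60, 49, 52, 63, 54, 65, 68, 55, 66, 69, 70, 71]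
  permInv := [0, 1, 2, 5, 16, 3, 6, 17, 8, 19, 22, 11, 26, 30, 33, 35, 4, 7, 18, 9, 20, 23, 10, 21, 24, 25, 12, 27, 31, 34, 13, 28, 32, 14, 29, 15, 56, 42, 57, 39, 43, 58, 37, 40, 44, 59, 46, 47, 50, 61, 48, 51, 62, 53, 64, 67, 36, 38, 41, 45, 60, 49, 52, 63, 54, 65, 68, 55, 66, 69, 70, 71]
  minus := [0, 0, 0, 0, 1, 0, 0, 1, 0, 1, 1, 0, 1, 0, 1, 0, 1, 1, 0, 1, 0, 0, 1, 0, 0, 0, 1, 0, 1, 0, 0, 1, 0, 1, 0, 0, 0, 0, 1, 0, 1, 0, 0, 1, 0, 1, 0, 0, 0, 1, 0, 0, 1, 0, 1, 1, 0, 1, 0, 1, 0, 1, 1, 0, 1, 0, 0, 1, 0, 0, 0, 0]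

theorem tauE6 : dataE6.checkTau Cfsg.Lie.chevE6 = true := by decide +kernel

theorem rowsE6_0 : (List.range' 0 24).all (dataE6.checkRow Cfsg.Lie.chevE6) = true := by
  decide +kernel

theorem rowsE6_1 : (List.range' 24 24).all (dataE6.checkRow Cfsg.Lie.chevE6) = true := by
  decide +kernel

theorem rowsE6_2 : (List.range' 48 24).all (dataE6.checkRow Cfsg.Lie.chevE6) = true := by
  decide +kernel

theorem goodE6 : Good dataE6 Cfsg.Lie.chevE6 := by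
  refine ⟨?_⟩
  have h : List.range Cfsg.Lie.chevE6.nroots
      = List.range' 0 24 ++ (List.range' 24 24 ++ List.range' 48 24) := by decide +kernel
  simp only [Data.check, tauE6, h, List.all_append, rowsE6_0, rowsE6_1, rowsE6_2, Bool.and_self]

end Cfsg.Agent.H37.Sym
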